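import Cfsg.Agent.H10.Fi22T.F5.RTab

set_option autoImplicit false
set_option linter.all false

namespace Cfsg.Agent.H10.Fi22T

open Cfsg.Agent.H35 Cfsg.Spor

theorem f5_rchk_8 : allR f5_rf 9600 10 (8 * 2 ^ 10) = true := by decide +kernel
theorem f5_rchk_9 : allR f5_rf 9600 10 (9 * 2 ^ 10) = true := by decide +kernel

end Cfsg.Agent.H10.Fi22T
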