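import Cfsg.Agent.H10.Fi22T.F5.RChk0
import Cfsg.Agent.H10.Fi22T.F5.RChk1
import Cfsg.Agent.H10.Fi22T.F5.RChk2
import Cfsg.Agent.H10.Fi22T.F5.RChk3
import Cfsg.Agent.H10.Fi22T.F5.RChk4

set_option autoImplicit false
set_option linter.all false

namespace Cfsg.Agent.H10.Fi22T

open Cfsg.Agent.H35 Cfsg.Spor

theorem f5_rall : ∀ p, p < 9600 → f5_rf p = true := by
  apply allR_blocks f5_rf 9600 10 10 _ (by decide)
  intro k hk
  interval_cases k
  · exact f5_rchk_0
  · exact f5_rchk_1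
  · exact f5_rchk_2
  · exact f5_rchk_3
  · exact f5_rchk_4
  · exact f5_rchk_5
  · exact f5_rchk_6
  · exact f5_rchk_7
  · exact f5_rchk_8
  · exact f5_rchk_9

theorem f5_circ_ok : circChk (fullW f5_rws f5_prels) f5_circT 0 f5_ccert = true := by decide +kernel
theorem f5_hc_ok : allR (fun c => hcChk f5_rsw f5_hc1T f5_hc2T c) 0 0 0 = true := by decide +kernel
theorem f5_h0 : RData.aord (f5_rd.ent 0 1) = 0 := by decide +kernel

end Cfsg.Agent.H10.Fi22T
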